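import Groth.Agent.Lib.FlatH4.GenFreeMain
import Groth.Agent.Lib.FlatDepth.GenericSmooth
import Groth.Agent.Lib.SmoothRed.Basic
import Mathlib.RingTheory.Nilpotent.GeometricallyReduced
import Mathlib.RingTheory.Smooth.Locus
import Mathlib.RingTheory.Flat.Equalizer
import Mathlib.RingTheory.Localization.BaseChange

/-!
# Reducedness of fibres over a dense open
-/

universe u

open TensorProduct

set_option linter.style.haveILetI false

namespace Groth.Agent.RadBound1

/-- At a minimal prime of a flat algebra with geometrically reduced generic fibre the algebra is smooth. -/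
theorem isSmoothAt_minimalPrime (B K A Ω : Type u) [CommRing B] [IsDomain B] [Field K] [Algebra B K]
    [IsFractionRing B K] [CommRing A] [Algebra B A] [Algebra.FiniteType B A] [Field Ω] [IsAlgClosed Ω] [Algebra B Ω]
    (hΩ : Function.Injective (algebraMap B Ω)) [IsReduced (Ω ⊗[B] A)] [IsReduced A] [Module.Flat B A]
    (P : Ideal A) [P.IsPrime] (hP : P ∈ minimalPrimes A) : Algebra.IsSmoothAt B P := by
  let AP := Localization.AtPrime P
  haveI : Ring.KrullDimLE 0 AP := Ring.krullDimLE_zero_iff.2 fun Q hQ => by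
    haveI := hQ
    have h1 : Q.comap (algebraMap A AP) ≤ P := by
      have := (IsLocalization.isPrime_iff_isPrime_disjoint P.primeCompl AP Q).1 hQ
      exact fun x hx => by
        by_contra hne
        exact Set.disjoint_left.1 this.2 hne hx
    have h2 : Q.comap (algebraMap A AP) = P := le_antisymm h1 (hP.2 ⟨inferInstance, bot_le⟩ h1)
    have h3 : Q = IsLocalRing.maximalIdeal AP := by
      rw [← IsLocalization.map_comap P.primeCompl AP Q]; show Ideal.map _ (Q.comap (algebraMap A AP)) = _; rw [h2]
      exact Localization.AtPrime.map_eq_maximalIdeal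
    rw [h3]; infer_instance
  haveI : IsReduced AP := isReduced_localizationPreserves P.primeCompl AP inferInstance
  letI : Field AP := IsField.toField ((IsLocalRing.isField_iff_maximalIdeal_eq).2 (by
    rw [← Ring.KrullDimLE.nilradical_eq_maximalIdeal, nilradical_eq_zero]; rfl))
  have hinj : ∀ b : B, b ≠ 0 → IsUnit (algebraMap B AP b) := by
    intro b hb
    refine isUnit_iff_ne_zero.2 fun h => ?_
    rw [IsScalarTower.algebraMap_apply B A AP] at h
    obtain ⟨s, hs⟩ := (IsLocalization.map_eq_zero_iff P.primeCompl AP _).1 h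
    have h0 : (s : A) = 0 := by
      have hreg := Module.Flat.isSMulRegular_of_isRegular (M := A) (IsRegular.of_ne_zero hb)
      apply hreg
      show b • (s : A) = b • (0 : A)
      rw [smul_zero, Algebra.smul_def, mul_comm]; exact hs
    exact s.2 (h0 ▸ P.zero_mem)
  letI : Algebra K AP := (IsLocalization.lift (M := nonZeroDivisors B) (S := K) (g := algebraMap B AP)
    fun b => hinj b (nonZeroDivisors.ne_zero b.2)).toAlgebra
  haveI : IsScalarTower B K AP := IsScalarTower.of_algebraMap_eq fun b => (IsLocalization.lift_eq _ b).symm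
  haveI : Algebra.EssFiniteType A AP := Algebra.EssFiniteType.of_isLocalization AP P.primeCompl
  haveI : Algebra.EssFiniteType B AP := Algebra.EssFiniteType.comp B A AP
  haveI : Algebra.EssFiniteType K AP := Algebra.EssFiniteType.of_comp B K AP
  -- `Ω ⊗ AP` is reduced
  letI : Algebra K Ω := (IsFractionRing.lift hΩ).toAlgebra
  haveI : IsScalarTower B K Ω := IsScalarTower.of_algebraMap_eq fun b => (IsFractionRing.lift_algebraMap hΩ b).symm
  let f : Ω ⊗[B] A →ₐ[Ω] Ω ⊗[B] AP := Algebra.TensorProduct.map (AlgHom.id Ω Ω) (IsScalarTower.toAlgHom B A AP)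
  letI : Algebra (Ω ⊗[B] A) (Ω ⊗[B] AP) := f.toRingHom.toAlgebra
  haveI : IsScalarTower Ω (Ω ⊗[B] A) (Ω ⊗[B] AP) := IsScalarTower.of_algebraMap_eq fun x => (f.commutes x).symm
  haveI := IsLocalization.tensorProduct_tensorProduct_right B Ω P.primeCompl AP (RingHom.ext fun a => by
    show f ((1 : Ω) ⊗ₜ[B] a) = (1 : Ω) ⊗ₜ[B] algebraMap A AP a
    simp [f])
  haveI : IsReduced (Ω ⊗[B] AP) :=
    isReduced_localizationPreserves (P.primeCompl.map (Algebra.TensorProduct.includeRight (R := B) (A := Ω))) _
      inferInstance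
  haveI : Algebra.IsGeometricallyReduced K AP := by
    rw [Algebra.isGeometricallyReduced_field_iff]
    let j : AlgebraicClosure K →ₐ[K] Ω := IsAlgClosed.lift
    haveI : IsReduced (Ω ⊗[K] AP) :=
      isReduced_of_injective ((IsLocalization.algebraTensorEquiv (nonZeroDivisors B) K Ω AP))
        (IsLocalization.algebraTensorEquiv (nonZeroDivisors B) K Ω AP).injective
    exact isReduced_of_injective (Algebra.TensorProduct.map j (AlgHom.id K AP))
      (Module.Flat.rTensor_preserves_injective_linearMap j.toLinearMap j.toRingHom.injective)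
  haveI : Algebra.FormallySmooth K AP := FlatDepth.formallySmooth_of_geomReduced K AP
  haveI : Algebra.FormallySmooth B K := Algebra.FormallySmooth.of_isLocalization (nonZeroDivisors B)
  exact Algebra.FormallySmooth.comp B K AP

/-- A nonzerodivisor outside of which a flat algebra with geometrically reduced generic fibre is smooth. -/
theorem exists_smooth_away (B A Ω : Type u) [CommRing B] [IsDomain B] [IsNoetherianRing B]
    [CommRing A] [Algebra B A] [Algebra.FiniteType B A] [Field Ω] [IsAlgClosed Ω] [Algebra B Ω]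
    (hΩ : Function.Injective (algebraMap B Ω)) [IsReduced (Ω ⊗[B] A)] [Module.Flat B A] :
    ∃ s : A, (∀ a, s * a = 0 → a = 0) ∧ Algebra.Smooth B (Localization.Away s) := by
  classical
  haveI : IsNoetherianRing A := Algebra.FiniteType.isNoetherianRing B A
  haveI : Algebra.FinitePresentation B A := Algebra.FinitePresentation.of_finiteType.1 inferInstance
  haveI : IsReduced A := isReduced_of_injective (Algebra.TensorProduct.includeRight : A →ₐ[B] Ω ⊗[B] A)
    (Algebra.TensorProduct.includeRight_injective hΩ)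
  obtain ⟨I, hI⟩ := (PrimeSpectrum.isClosed_iff_zeroLocus_ideal _).1
    ((Algebra.isOpen_smoothLocus (R := B) (A := A)).isClosed_compl)
  have hIP : ∀ P ∈ minimalPrimes A, ¬ I ≤ P := fun P hP hle => by
    haveI := hP.1.1
    have h1 : (⟨P, hP.1.1⟩ : PrimeSpectrum A) ∈ PrimeSpectrum.zeroLocus (I : Set A) := hle
    rw [← hI] at h1
    exact h1 (isSmoothAt_minimalPrime B (FractionRing B) A Ω hΩ P hP)
  have hfin : (minimalPrimes A).Finite := minimalPrimes.finite_of_isNoetherianRing A
  obtain ⟨s, hsI, hs⟩ : ∃ s ∈ I, ∀ P ∈ minimalPrimes A, s ∉ P := by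
    by_contra hcon
    push Not at hcon
    have hsub : (I : Set A) ⊆ ⋃ P ∈ hfin.toFinset, (P : Set A) := fun x hx => by
      obtain ⟨P, hP, hxP⟩ := hcon x hx
      exact Set.mem_biUnion (hfin.mem_toFinset.2 hP) hxP
    obtain ⟨P, hP, hle⟩ := (Ideal.subset_union_prime ⊥ ⊥ fun P hP _ _ => (hfin.mem_toFinset.1 hP).1.1).1 hsub
    exact hIP P (hfin.mem_toFinset.1 hP) hle
  refine ⟨s, fun a ha => ?_, Algebra.basicOpen_subset_smoothLocus_iff_smooth.1 fun Q hQ => ?_⟩
  · have hmem : a ∈ sInf (minimalPrimes A) := Submodule.mem_sInf.2 fun P hP =>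
      (hP.1.1.mem_or_mem (ha ▸ P.zero_mem)).resolve_left (hs P hP)
    have hnil : (⊥ : Ideal A).radical = ⊥ := nilradical_eq_zero A
    rw [minimalPrimes, Ideal.sInf_minimalPrimes, hnil] at hmem
    exact hmem
  · by_contra hne
    have h1 : Q ∈ PrimeSpectrum.zeroLocus (I : Set A) := hI ▸ hne
    exact hQ (h1 hsI)

/-- Fibres of a flat algebra with geometrically reduced generic fibre are reduced over a dense open. -/
theorem exists_reduced_fibres_flat (B A Ω : Type u) [CommRing B] [IsDomain B] [IsNoetherianRing B]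
    [CommRing A] [Algebra B A] [Algebra.FiniteType B A] [Field Ω] [IsAlgClosed Ω] [Algebra B Ω]
    (hΩ : Function.Injective (algebraMap B Ω)) [IsReduced (Ω ⊗[B] A)] [Module.Flat B A] :
    ∃ h : B, h ≠ 0 ∧ ∀ (k : Type u) [Field k] [Algebra B k], algebraMap B k h ≠ 0 → IsReduced (k ⊗[B] A) := by
  obtain ⟨s, hs, hsm⟩ := exists_smooth_away B A Ω hΩ
  let μ : A →ₗ[B] A := LinearMap.mulLeft B s
  obtain ⟨h, hh, hfree, -⟩ := FlatH4.exists_free_and_fg_relations (R := B) (S := A) (M := A ⧸ Ideal.span {s})
  refine ⟨h, hh, fun k _ _ hk => ?_⟩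
  let S := Localization.Away h
  haveI := hfree S (IsLocalization.Away.algebraMap_isUnit h)
  let ψ : S →+* k := IsLocalization.Away.lift h (g := algebraMap B k) (isUnit_iff_ne_zero.2 hk)
  letI := ψ.toAlgebra
  haveI : IsScalarTower B S k := IsScalarTower.of_algebraMap_eq fun b => (IsLocalization.Away.lift_eq h _ b).symm
  haveI : Module.Flat B S := IsLocalization.flat S (Submonoid.powers h)
  -- multiplication by `s` stays injective
  let q : A →ₗ[B] A ⧸ Ideal.span {s} := (Submodule.mkQ (Ideal.span {s} : Ideal A)).restrictScalars B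
  have hex : Function.Exact μ q := fun y => by
    show Submodule.Quotient.mk y = 0 ↔ _
    rw [Submodule.Quotient.mk_eq_zero, Ideal.mem_span_singleton]
    exact ⟨fun ⟨c, hc⟩ => ⟨c, hc.symm⟩, fun ⟨c, hc⟩ => ⟨c, hc.symm⟩⟩
  have hμ : Function.Injective μ := fun a b hab => sub_eq_zero.1 (hs _ (by
    rw [mul_sub]; exact sub_eq_zero.2 hab))
  have hexS : Function.Exact (μ.baseChange S) (q.baseChange S) :=
    lTensor_exact S hex (Submodule.mkQ_surjective _)
  have hμS : Function.Injective (μ.baseChange S) := Module.Flat.lTensor_preserves_injective_linearMap μ hμ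
  have hqS : Function.Surjective (q.baseChange S) := LinearMap.lTensor_surjective S (Submodule.mkQ_surjective _)
  have hk1 : Function.Injective ((μ.baseChange S).baseChange k) :=
    LinearMap.lTensor_injective_of_exact_of_flat (q.baseChange S) hqS (μ.baseChange S) hμS hexS k
  let e : k ⊗[S] (S ⊗[B] A) ≃ₗ[k] k ⊗[B] A := TensorProduct.AlgebraTensorModule.cancelBaseChange B S k k A
  have hsk : ∀ z : k ⊗[B] A, ((1 : k) ⊗ₜ[B] s) * z = 0 → z = 0 := by
    intro z hz
    obtain ⟨w, rfl⟩ := e.surjective z
    have hcomm : ∀ w, e ((μ.baseChange S).baseChange k w) = ((1 : k) ⊗ₜ[B] s) * e w := by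
      intro w
      induction w using TensorProduct.induction_on with
      | zero => simp
      | tmul x y =>
        induction y using TensorProduct.induction_on with
        | zero => simp
        | tmul t a => simp [e, μ, Algebra.TensorProduct.tmul_mul_tmul, LinearMap.baseChange_tmul]
        | add a b ha hb => simp only [TensorProduct.tmul_add, map_add, ha, hb, mul_add]
      | add a b ha hb => simp only [map_add, ha, hb, mul_add]
    have h0 : w = 0 := hk1 (e.injective (by rw [hcomm, hz, map_zero, map_zero]))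
    rw [h0, map_zero]
  let As := Localization.Away s
  haveI := SmoothRed.isReduced_of_smooth_field k (k ⊗[B] As)
  let g : k ⊗[B] A →ₐ[k] k ⊗[B] As := Algebra.TensorProduct.map (AlgHom.id k k) (IsScalarTower.toAlgHom B A As)
  letI : Algebra (k ⊗[B] A) (k ⊗[B] As) := g.toRingHom.toAlgebra
  haveI : IsScalarTower k (k ⊗[B] A) (k ⊗[B] As) := IsScalarTower.of_algebraMap_eq fun x => (g.commutes x).symm
  haveI hloc := IsLocalization.tensorProduct_tensorProduct_right B k (Submonoid.powers s) As (RingHom.ext fun a => by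
    show g ((1 : k) ⊗ₜ[B] a) = (1 : k) ⊗ₜ[B] algebraMap A As a
    simp [g])
  refine isReduced_of_injective g ((injective_iff_map_eq_zero g).2 fun z hz => ?_)
  obtain ⟨⟨_, m, ⟨n, rfl⟩, rfl⟩, hm⟩ := (IsLocalization.map_eq_zero_iff
    ((Submonoid.powers s).map (Algebra.TensorProduct.includeRight (R := B) (A := k))) (k ⊗[B] As) z).1 hz
  clear hz hloc
  have hpow : (Algebra.TensorProduct.includeRight (s ^ n) : k ⊗[B] A) = ((1 : k) ⊗ₜ[B] s) ^ n := map_pow _ _ _
  replace hm : ((1 : k) ⊗ₜ[B] s) ^ n * z = 0 := by rw [← hpow]; exact hm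
  clear hpow
  induction n generalizing z with
  | zero => simpa using hm
  | succ n ih =>
    refine hsk z (ih _ ?_)
    rw [← mul_assoc, ← pow_succ]; exact hm

/-- Fibres of an algebra with geometrically reduced generic fibre are reduced over a dense open. -/
theorem exists_reduced_fibres (B A Ω : Type u) [CommRing B] [IsDomain B] [IsNoetherianRing B]
    [CommRing A] [Algebra B A] [Algebra.FiniteType B A] [Field Ω] [IsAlgClosed Ω] [Algebra B Ω]
    (hΩ : Function.Injective (algebraMap B Ω)) [IsReduced (Ω ⊗[B] A)] :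
    ∃ h : B, h ≠ 0 ∧ ∀ (k : Type u) [Field k] [Algebra B k], algebraMap B k h ≠ 0 → IsReduced (k ⊗[B] A) := by
  obtain ⟨f, hf, hfree, -⟩ := FlatH4.exists_free_and_fg_relations (R := B) (S := A) (M := A)
  let S := Localization.Away f
  haveI := hfree S (IsLocalization.Away.algebraMap_isUnit f)
  haveI : IsDomain S := IsLocalization.isDomain_localization
    (powers_le_nonZeroDivisors_of_noZeroDivisors hf)
  haveI : IsNoetherianRing S := IsLocalization.isNoetherianRing (Submonoid.powers f) S inferInstance
  have hu : IsUnit (algebraMap B Ω f) := isUnit_iff_ne_zero.2 ((map_ne_zero_iff _ hΩ).2 hf)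
  letI : Algebra S Ω := (IsLocalization.Away.lift f (g := algebraMap B Ω) hu).toAlgebra
  haveI : IsScalarTower B S Ω := IsScalarTower.of_algebraMap_eq fun b => (IsLocalization.Away.lift_eq f _ b).symm
  have hΩS : Function.Injective (algebraMap S Ω) := by
    refine (injective_iff_map_eq_zero _).2 fun x hx => ?_
    obtain ⟨⟨b, m⟩, hb⟩ := IsLocalization.surj (Submonoid.powers f) x
    have : b = 0 := hΩ (by
      rw [map_zero, IsScalarTower.algebraMap_apply B S Ω, ← hb, map_mul, hx, zero_mul])
    rw [this, map_zero] at hb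
    exact (IsLocalization.map_units S m).mul_left_eq_zero.1 hb
  let eΩ := Algebra.TensorProduct.cancelBaseChange B S S Ω A
  haveI : IsReduced (Ω ⊗[S] (S ⊗[B] A)) := isReduced_of_injective eΩ eΩ.injective
  obtain ⟨h, hh, hred⟩ := exists_reduced_fibres_flat S (S ⊗[B] A) Ω hΩS
  obtain ⟨⟨b, m⟩, hb⟩ := IsLocalization.surj (Submonoid.powers f) h
  refine ⟨b * f, mul_ne_zero (fun h0 => hh ?_) hf, fun k _ _ hk => ?_⟩
  · rw [h0, map_zero] at hb
    exact (IsLocalization.map_units S m).mul_left_eq_zero.1 hb
  rw [map_mul] at hk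
  letI : Algebra S k := (IsLocalization.Away.lift f (g := algebraMap B k)
    (isUnit_iff_ne_zero.2 (right_ne_zero_of_mul hk))).toAlgebra
  haveI : IsScalarTower B S k := IsScalarTower.of_algebraMap_eq fun b => (IsLocalization.Away.lift_eq f _ b).symm
  haveI := hred k fun h0 => left_ne_zero_of_mul hk (by
    rw [IsScalarTower.algebraMap_apply B S k, ← hb, map_mul, h0, zero_mul])
  let ek := Algebra.TensorProduct.cancelBaseChange B S S k A
  exact isReduced_of_injective ek.symm ek.symm.injective

end Groth.Agent.RadBound1
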