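import Groth.Agent.Lib.RadBound1.Strat
import Groth.Agent.Lib.RadBound1.GeomRed
import Mathlib.RingTheory.TensorProduct.Quotient
import Mathlib.RingTheory.LocalRing.Module
import Mathlib.FieldTheory.IsAlgClosed.AlgebraicClosure
import Mathlib.RingTheory.Ideal.GoingUp
import Mathlib.RingTheory.Algebraic.Integral
import Mathlib.RingTheory.AlgebraTower

/-!
# Uniform degree bound for radicals
-/

universe u

open TensorProduct

set_option linter.style.haveILetI false

namespace Groth.Agent.RadBound1

open MvPolynomial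

variable {N : ℕ}

/-! ### Coordinates along a finite field extension -/

section Coord

variable {k k₁ : Type u} [Field k] [Field k₁] [Algebra k k₁] {D : ℕ} (b : Module.Basis (Fin D) k k₁)

/-- The basis of `k₁[X]` over `k`. -/
noncomputable def polyBasis : Module.Basis (Fin D × (Fin N →₀ ℕ)) k (MvPolynomial (Fin N) k₁) :=
  b.smulTower (MvPolynomial.basisMonomials (Fin N) k₁)

/-- The coordinates of a polynomial over `k₁`. -/
noncomputable def coord : MvPolynomial (Fin N) k₁ →ₗ[k] (Fin D → MvPolynomial (Fin N) k) :=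
  (polyBasis b).constr k fun x => Pi.single x.1 (monomial x.2 1)

theorem polyBasis_apply (j : Fin D) (s : Fin N →₀ ℕ) : polyBasis b (j, s) = monomial s (b j) := by
  rw [polyBasis, Module.Basis.smulTower_apply, MvPolynomial.coe_basisMonomials, MvPolynomial.smul_monomial,
    smul_eq_mul, mul_one]

theorem coord_monomial (s : Fin N →₀ ℕ) (c : k₁) :
    coord b (monomial s c) = fun i => monomial s (b.repr c i) := by
  classical
  conv_lhs => rw [← b.sum_repr c, map_sum]
  funext i
  rw [map_sum, Finset.sum_apply, Finset.sum_eq_single i]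
  · rw [← MvPolynomial.smul_monomial, map_smul, ← polyBasis_apply b i s, coord, Module.Basis.constr_basis]
    simp [MvPolynomial.smul_monomial]
  · intro j _ hj
    rw [← MvPolynomial.smul_monomial, map_smul, ← polyBasis_apply b j s, coord, Module.Basis.constr_basis]
    simp [Pi.single_eq_of_ne (Ne.symm hj)]
  · exact fun h => absurd (Finset.mem_univ i) h

theorem coord_mul (p : MvPolynomial (Fin N) k) (q : MvPolynomial (Fin N) k₁) :
    coord b (map (algebraMap k k₁) p * q) = p • coord b q := by
  induction q using MvPolynomial.induction_on' with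
  | monomial s c =>
    induction p using MvPolynomial.induction_on' with
    | monomial t a =>
      rw [map_monomial, monomial_mul, coord_monomial, coord_monomial]
      funext i
      rw [Pi.smul_apply, smul_eq_mul, monomial_mul, ← Algebra.smul_def, map_smul]
      rfl
    | add p₁ p₂ h₁ h₂ => rw [map_add, add_mul, map_add, h₁, h₂, add_smul]
  | add q₁ q₂ h₁ h₂ => rw [mul_add, map_add, h₁, h₂, map_add, smul_add]

theorem sum_coord (q : MvPolynomial (Fin N) k₁) :
    ∑ i, map (algebraMap k k₁) (coord b q i) * C (b i) = q := by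
  induction q using MvPolynomial.induction_on' with
  | monomial s c =>
    conv_rhs => rw [← b.sum_repr c, map_sum]
    refine Finset.sum_congr rfl fun i _ => ?_
    rw [coord_monomial, map_monomial, mul_comm, C_mul_monomial, mul_comm, Algebra.smul_def]
  | add q₁ q₂ h₁ h₂ =>
    simp only [map_add, Pi.add_apply, add_mul, Finset.sum_add_distrib, h₁, h₂]

theorem totalDegree_coord_le (q : MvPolynomial (Fin N) k₁) (i : Fin D) :
    (coord b q i).totalDegree ≤ q.totalDegree := by
  conv_lhs => rw [q.as_sum, map_sum, Finset.sum_apply]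
  refine (totalDegree_finsetSum _ _).trans (Finset.sup_le fun s hs => ?_)
  rw [coord_monomial]
  exact (totalDegree_monomial_le _ _).trans (MvPolynomial.le_totalDegree hs)

end Coord

/-- Contraction of an ideal along a finite field extension, in bounded degree. -/
theorem exists_contraction_bound (N D d : ℕ) :
    ∃ e : ℕ, ∀ (k k₁ : Type u) [Field k] [Field k₁] [Algebra k k₁], Nonempty (Module.Basis (Fin D) k k₁) →
      ∀ G : Set (MvPolynomial (Fin N) k₁), (∀ g ∈ G, g.totalDegree ≤ d) →
      ∀ p : MvPolynomial (Fin N) k, map (algebraMap k k₁) p ∈ Ideal.span G →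
        p ∈ Ideal.span {q | q.totalDegree ≤ e ∧ map (algebraMap k k₁) q ∈ Ideal.span G} := by
  classical
  obtain ⟨e, he⟩ := exists_colon_degree_bound.{u} N D d
  refine ⟨e, fun k k₁ _ _ _ ⟨b⟩ G hG p hp => ?_⟩
  let T : Set (Fin D → MvPolynomial (Fin N) k) := {t | ∃ g ∈ G, ∃ j, t = coord b (C (b j) * g)}
  let v := coord (N := N) b 1
  have hv : ∀ i, (v i).totalDegree ≤ d := fun i => (totalDegree_coord_le b 1 i).trans (by simp)
  have hT : ∀ t ∈ T, ∀ i, (t i).totalDegree ≤ d := by
    rintro t ⟨g, hg, j, rfl⟩ i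
    refine (totalDegree_coord_le b _ i).trans ((totalDegree_mul _ _).trans ?_)
    rw [totalDegree_C, zero_add]; exact hG g hg
  have key : ∀ q : MvPolynomial (Fin N) k, q • v ∈ Submodule.span (MvPolynomial (Fin N) k) T ↔
      map (algebraMap k k₁) q ∈ Ideal.span G := by
    intro q
    have hq : q • v = coord b (map (algebraMap k k₁) q) := by rw [← coord_mul, mul_one]
    rw [hq]
    constructor
    · intro h
      rw [← sum_coord b (map (algebraMap k k₁) q)]
      generalize coord b (map (algebraMap k k₁) q) = t at h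
      induction h using Submodule.span_induction with
      | mem x hx =>
        obtain ⟨g, hg, j, rfl⟩ := hx
        rw [sum_coord]
        exact Ideal.mul_mem_left _ _ (Ideal.subset_span hg)
      | zero => simp
      | add x y _ _ hx hy =>
        simp only [Pi.add_apply, map_add, add_mul, Finset.sum_add_distrib]
        exact Ideal.add_mem _ hx hy
      | smul r x _ hx =>
        simp only [Pi.smul_apply, smul_eq_mul, map_mul, mul_assoc, ← Finset.mul_sum]
        exact Ideal.mul_mem_left _ _ hx
    · intro h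
      refine Submodule.span_induction (p := fun x _ => ∀ y, coord b (y * x) ∈ Submodule.span (MvPolynomial (Fin N) k) T)
        (fun g hg y => ?_) (fun y => by simp) (fun x₁ x₂ _ _ h₁ h₂ y => ?_) (fun r x _ hx y => ?_) h 1 |> fun h' => by
          simpa using h'
      · rw [← sum_coord b y, Finset.sum_mul, map_sum]
        refine sum_mem fun j _ => ?_
        rw [mul_assoc, coord_mul]
        exact Submodule.smul_mem _ _ (Submodule.subset_span ⟨g, hg, j, rfl⟩)
      · rw [mul_add, map_add]; exact Submodule.add_mem _ (h₁ y) (h₂ y)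
      · rw [smul_eq_mul, ← mul_assoc]; exact hx _
  refine Ideal.span_mono (fun q hq => And.intro hq.1 ((key q).1 hq.2)) (he k T v hT hv p ((key p).2 hp))

/-! ### Radicals -/

theorem isReduced_quot_map {B k : Type u} [CommRing B] [CommRing k] [Algebra B k]
    (I : Ideal (MvPolynomial (Fin N) B)) :
    IsReduced (k ⊗[B] (MvPolynomial (Fin N) B ⧸ I)) ↔
      (I.map (map (algebraMap B k))).IsRadical := by
  let e₁ := Algebra.TensorProduct.tensorQuotientEquiv (R := B) k (MvPolynomial (Fin N) B) k I
  let e₂ : k ⊗[B] MvPolynomial (Fin N) B ≃+* MvPolynomial (Fin N) k := (algebraTensorAlgEquiv B k).toRingEquiv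
  have hI : I.map (map (algebraMap B k)) =
      (I.map (Algebra.TensorProduct.includeRight : MvPolynomial (Fin N) B →ₐ[B] k ⊗[B] MvPolynomial (Fin N) B)).map e₂ := by
    rw [← Ideal.map_coe (e₂ : k ⊗[B] MvPolynomial (Fin N) B ≃+* MvPolynomial (Fin N) k),
      ← Ideal.map_coe (Algebra.TensorProduct.includeRight : MvPolynomial (Fin N) B →ₐ[B] k ⊗[B] MvPolynomial (Fin N) B),
      Ideal.map_map]
    congr 1
    refine RingHom.ext fun p => ?_
    simp [e₂]
  let e := e₁.toRingEquiv.trans (Ideal.quotientEquiv _ _ e₂ hI)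
  rw [Ideal.isRadical_iff_quotient_reduced]
  exact ⟨fun h => isReduced_of_injective e.symm e.symm.injective, fun h => isReduced_of_injective e e.injective⟩

theorem exists_isRadical_fibres {B : Type u} [CommRing B] [IsDomain B] [IsNoetherianRing B]
    {Ω : Type u} [Field Ω] [IsAlgClosed Ω] (ι : B →+* Ω) (hι : Function.Injective ι)
    (J : Ideal (MvPolynomial (Fin N) B)) (hJ : (J.map (map ι)).IsRadical) :
    ∃ h : B, h ≠ 0 ∧ ∀ (k : Type u) [Field k] (χ : B →+* k), χ h ≠ 0 → (J.map (map χ)).IsRadical := by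
  letI := ι.toAlgebra
  haveI : IsReduced (Ω ⊗[B] (MvPolynomial (Fin N) B ⧸ J)) := (isReduced_quot_map J).2 hJ
  obtain ⟨h, hh, hred⟩ := exists_reduced_fibres B (MvPolynomial (Fin N) B ⧸ J) Ω hι
  refine ⟨h, hh, fun k _ χ hχ => ?_⟩
  letI := χ.toAlgebra
  exact (isReduced_quot_map J).1 (hred k hχ)

/-- A finite field extension receiving a finite extension of the base. -/
theorem exists_fieldExt {S B : Type u} [CommRing S] [IsDomain S] [CommRing B] [Algebra S B] [Module.Finite S B]
    [FaithfulSMul S B] {D : ℕ} (g : Fin D → B) (hg : Submodule.span S (Set.range g) = ⊤)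
    (k : Type u) [Field k] (φ : S →+* k) :
    ∃ (k₁ : Type u) (_ : Field k₁) (_ : Algebra k k₁) (_ : Module.Finite k k₁) (χ : B →+* k₁),
      χ.comp (algebraMap S B) = (algebraMap k k₁).comp φ ∧ Module.finrank k k₁ ≤ D := by
  letI := φ.toAlgebra
  let 𝔭 : Ideal S := RingHom.ker φ
  haveI : 𝔭.IsPrime := RingHom.ker_isPrime φ
  have hsupp : (⟨𝔭, inferInstance⟩ : PrimeSpectrum S) ∈ Module.support S B := by
    rw [Module.support_eq_zeroLocus]
    have h0 : Module.annihilator S B = ⊥ := Module.annihilator_eq_bot.2 inferInstance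
    simp [h0]
  haveI : Nontrivial (𝔭.ResidueField ⊗[S] B) :=
    (Module.mem_support_iff_nontrivial_residueField_tensorProduct (R := S) (M := B) ⟨𝔭, inferInstance⟩).1 hsupp
  let κk : 𝔭.ResidueField →+* k := Ideal.ResidueField.lift 𝔭 φ le_rfl (fun x hx => isUnit_iff_ne_zero.2 hx)
  letI := κk.toAlgebra
  haveI : IsScalarTower S 𝔭.ResidueField k := IsScalarTower.of_algebraMap_eq fun x =>
    (Ideal.ResidueField.lift_algebraMap 𝔭 φ le_rfl (fun x hx => isUnit_iff_ne_zero.2 hx) x).symm
  haveI : Nontrivial (k ⊗[S] B) := by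
    haveI : Nontrivial (k ⊗[𝔭.ResidueField] (𝔭.ResidueField ⊗[S] B)) :=
      Function.Injective.nontrivial (f := Algebra.TensorProduct.includeRight)
        (Algebra.TensorProduct.includeRight_injective κk.injective)
    exact (Algebra.TensorProduct.cancelBaseChange S 𝔭.ResidueField 𝔭.ResidueField k B).injective.nontrivial
  obtain ⟨M, hM⟩ := Ideal.exists_maximal (k ⊗[S] B)
  haveI := hM
  letI : Field (k ⊗[S] B ⧸ M) := Ideal.Quotient.field M
  refine ⟨k ⊗[S] B ⧸ M, inferInstance, inferInstance, inferInstance,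
    (Ideal.Quotient.mk M).comp (Algebra.TensorProduct.includeRight : B →ₐ[S] k ⊗[S] B).toRingHom,
    RingHom.ext fun x => ?_, ?_⟩
  · show Ideal.Quotient.mk M ((1 : k) ⊗ₜ[S] algebraMap S B x) = _
    rw [Algebra.algebraMap_eq_smul_one, ← TensorProduct.smul_tmul, Algebra.smul_def, mul_one]
    rfl
  · let Φ : (Fin D → k) →ₗ[k] k ⊗[S] B ⧸ M :=
      (Ideal.Quotient.mkₐ k M).toLinearMap ∘ₗ Fintype.linearCombination k fun i => (1 : k) ⊗ₜ[S] g i
    have hΦ : Function.Surjective Φ := by
      refine (Ideal.Quotient.mkₐ_surjective k M).comp ?_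
      rw [← LinearMap.range_eq_top, Fintype.range_linearCombination, eq_top_iff]
      intro z hz
      clear hz
      induction z using TensorProduct.induction_on with
      | zero => exact Submodule.zero_mem _
      | tmul t y =>
        have hy : y ∈ Submodule.span S (Set.range g) := hg ▸ Submodule.mem_top
        obtain ⟨a, rfl⟩ := (Submodule.mem_span_range_iff_exists_fun S).1 hy
        rw [TensorProduct.tmul_sum]
        refine sum_mem fun i _ => ?_
        have : t ⊗ₜ[S] (a i • g i) = (a i • t) • ((1 : k) ⊗ₜ[S] g i) := by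
          rw [TensorProduct.smul_tmul', smul_eq_mul, mul_one, TensorProduct.smul_tmul]
        rw [this]
        exact Submodule.smul_mem _ _ (Submodule.subset_span ⟨i, rfl⟩)
      | add a b ha hb => exact Submodule.add_mem _ ha hb
    exact (LinearMap.finrank_le_finrank_of_surjective hΦ).trans_eq' rfl |>.trans (by simp)

set_option maxHeartbeats 400000 in
/-- On a dense open of the parameter space, after a bounded extension of the field the radical is
generated in bounded degree. -/
theorem exists_generic {R : Type u} [CommRing R] [IsDomain R] [IsNoetherianRing R] {L : ℕ}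
    (W : Fin L → MvPolynomial (Fin N) R) :
    ∃ f : R, f ≠ 0 ∧ ∃ D d : ℕ, ∀ (k : Type u) [Field k] (φ : R →+* k), φ f ≠ 0 →
      ∃ (k₁ : Type u) (_ : Field k₁) (_ : Algebra k k₁) (_ : Module.Finite k k₁), Module.finrank k k₁ ≤ D ∧
        ∃ G : Set (MvPolynomial (Fin N) k₁), (∀ g ∈ G, g.totalDegree ≤ d) ∧
          Ideal.span G = (Ideal.span (Set.range fun l => map (algebraMap k k₁) (map φ (W l)))).radical := by
  classical
  let Ω := AlgebraicClosure (FractionRing R)
  let I : Ideal (MvPolynomial (Fin N) Ω) := Ideal.span (Set.range fun l => map (algebraMap R Ω) (W l))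
  obtain ⟨G, hG⟩ := (IsNoetherian.noetherian I.radical : I.radical.FG)
  have hmem : ∀ g : G, ∃ n : ℕ, (g : MvPolynomial (Fin N) Ω) ^ n ∈ I := fun g => by
    have : (g : MvPolynomial (Fin N) Ω) ∈ I.radical := hG ▸ Submodule.subset_span g.2
    exact this
  choose n hn using hmem
  have h1 : ∀ g : G, ∃ a : Fin L → MvPolynomial (Fin N) Ω,
      ∑ l, a l * map (algebraMap R Ω) (W l) = (g : MvPolynomial (Fin N) Ω) ^ n g :=
    fun g => Ideal.mem_span_range_iff_exists_fun.1 (hn g)
  choose a ha using h1
  have h2 : ∀ l, ∃ c : G → MvPolynomial (Fin N) Ω, ∑ g, c g * (g : MvPolynomial (Fin N) Ω) = map (algebraMap R Ω) (W l) := by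
    intro l
    refine Ideal.mem_span_range_iff_exists_fun.1 ?_
    have : Set.range (fun g : G => (g : MvPolynomial (Fin N) Ω)) = (G : Set _) := Subtype.range_coe
    rw [this, Ideal.span, hG]
    exact Ideal.le_radical (Ideal.subset_span ⟨l, rfl⟩)
  choose c hc using h2
  let C₀ : Finset Ω := (G.biUnion fun g => g.coeffs) ∪ (Finset.univ.biUnion fun x : G × Fin L => (a x.1 x.2).coeffs) ∪
    (Finset.univ.biUnion fun x : Fin L × G => (c x.1 x.2).coeffs)
  haveI : Algebra.IsAlgebraic R (FractionRing R) := IsLocalization.isAlgebraic _ (nonZeroDivisors R)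
  haveI : Algebra.IsAlgebraic R Ω := Algebra.IsAlgebraic.trans R (FractionRing R) Ω
  obtain ⟨r, hr, hint⟩ := Algebra.IsAlgebraic.exists_integral_multiples R C₀
  let S := Localization.Away r
  have hinjR : Function.Injective (algebraMap R Ω) :=
    (algebraMap (FractionRing R) Ω).injective.comp (IsFractionRing.injective R (FractionRing R))
  have hru : IsUnit (algebraMap R Ω r) := isUnit_iff_ne_zero.2 ((map_ne_zero_iff _ hinjR).2 hr)
  letI : Algebra S Ω := (IsLocalization.Away.lift r (g := algebraMap R Ω) hru).toAlgebra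
  haveI : IsScalarTower R S Ω := IsScalarTower.of_algebraMap_eq fun b => (IsLocalization.Away.lift_eq r _ b).symm
  haveI : IsDomain S := IsLocalization.isDomain_localization (powers_le_nonZeroDivisors_of_noZeroDivisors hr)
  haveI : IsNoetherianRing S := IsLocalization.isNoetherianRing (Submonoid.powers r) S inferInstance
  have hinjS : Function.Injective (algebraMap S Ω) := by
    refine (injective_iff_map_eq_zero _).2 fun x hx => ?_
    obtain ⟨⟨b, m⟩, hb⟩ := IsLocalization.surj (Submonoid.powers r) x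
    have : b = 0 := hinjR (by
      rw [map_zero, IsScalarTower.algebraMap_apply R S Ω, ← hb, map_mul, hx, zero_mul])
    rw [this, map_zero] at hb
    exact (IsLocalization.map_units S m).mul_left_eq_zero.1 hb
  have hintS : ∀ x ∈ C₀, IsIntegral S x := by
    intro x hx
    obtain ⟨u, hu⟩ := IsLocalization.Away.algebraMap_isUnit (S := S) r
    have h : IsIntegral S ((↑u⁻¹ : S) • (r • x)) := (IsIntegral.tower_top (hint x hx)).smul _
    rwa [← algebraMap_smul S r x, ← hu, smul_smul, Units.inv_mul, one_smul] at h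
  let B := Algebra.adjoin S (C₀ : Set Ω)
  haveI : Module.Finite S B := Module.Finite.iff_fg.2 (fg_adjoin_of_finite C₀.finite_toSet hintS)
  haveI : IsNoetherianRing B := IsNoetherianRing.of_finite S B
  haveI : FaithfulSMul S B := (faithfulSMul_iff_algebraMap_injective S B).2 fun x y h =>
    hinjS (congrArg Subtype.val h)
  let ι : B →+* Ω := (B.val : B →ₐ[S] Ω).toRingHom
  have hιinj : Function.Injective ι := Subtype.val_injective
  let inR : R →+* B := (algebraMap S B).comp (algebraMap R S)
  have hιR : ι.comp inR = algebraMap R Ω := RingHom.ext fun x => (IsScalarTower.algebraMap_apply R S Ω x).symm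
  have hlift : ∀ p : MvPolynomial (Fin N) Ω, p.coeffs ⊆ C₀ → ∃ q : MvPolynomial (Fin N) B, map ι q = p := by
    intro p hp
    have : p ∈ Set.range (map (σ := Fin N) ι) := mem_range_map_iff_coeffs_subset.2 fun x hx =>
      ⟨⟨x, Algebra.subset_adjoin (hp hx)⟩, rfl⟩
    exact this
  choose gB hgB using fun g : G => hlift g fun x hx => by
    simp only [C₀, Finset.mem_union, Finset.mem_biUnion]
    exact Or.inl (Or.inl ⟨g, g.2, hx⟩)
  choose aB haB using fun x : G × Fin L => hlift (a x.1 x.2) fun y hy => by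
    simp only [C₀, Finset.mem_union, Finset.mem_biUnion]
    exact Or.inl (Or.inr ⟨x, Finset.mem_univ _, hy⟩)
  choose cB hcB using fun x : Fin L × G => hlift (c x.1 x.2) fun y hy => by
    simp only [C₀, Finset.mem_union, Finset.mem_biUnion]
    exact Or.inr ⟨x, Finset.mem_univ _, hy⟩
  have hmapW : ∀ l, map ι (map inR (W l)) = map (algebraMap R Ω) (W l) := fun l => by rw [MvPolynomial.map_map, hιR]
  have hι := map_injective (σ := Fin N) ι hιinj
  have hpow : ∀ g : G, ∑ l, aB (g, l) * map inR (W l) = gB g ^ n g := fun g => hι (by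
    simp only [map_sum, map_mul, map_pow, hmapW, haB, hgB, ha])
  have hW : ∀ l, ∑ g, cB (l, g) * gB g = map inR (W l) := fun l => hι (by
    simp only [map_sum, map_mul, hmapW, hcB, hgB, hc])
  -- spreading out reducedness
  let J : Ideal (MvPolynomial (Fin N) B) := Ideal.span (Set.range gB)
  have hJΩ : (J.map (map ι)).IsRadical := by
    rw [Ideal.map_span, ← Set.range_comp]
    have : Set.range (map ι ∘ gB) = (G : Set _) := by
      ext p
      constructor
      · rintro ⟨g, rfl⟩; rw [Function.comp_apply, hgB g]; exact g.2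
      · intro hp; exact ⟨⟨p, hp⟩, hgB _⟩
    rw [this, Ideal.span, hG]
    exact Ideal.radical_isRadical I
  obtain ⟨h, hh, hred⟩ := exists_isRadical_fibres ι hιinj J hJΩ
  obtain ⟨s, hs, hs0⟩ := Submodule.exists_mem_ne_zero_of_ne_bot
    (Ideal.comap_ne_bot_of_integral_mem (R := S) hh (Ideal.mem_span_singleton_self h)
      (Algebra.IsIntegral.isIntegral h))
  obtain ⟨⟨f₀, m⟩, hf₀⟩ := IsLocalization.surj (Submonoid.powers r) s
  obtain ⟨D, gen, hgen⟩ := Module.Finite.exists_fin (R := S) (M := B)
  refine ⟨f₀ * r, mul_ne_zero (fun h0 => hs0 ?_) hr, D,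
    (Finset.univ.sup fun g : G => (gB g).totalDegree), fun k _ φ hφ => ?_⟩
  · rw [h0, map_zero] at hf₀
    exact (IsLocalization.map_units S m).mul_left_eq_zero.1 hf₀
  rw [map_mul] at hφ
  let φS : S →+* k := IsLocalization.Away.lift r (g := φ) (isUnit_iff_ne_zero.2 (right_ne_zero_of_mul hφ))
  have hφS : φS.comp (algebraMap R S) = φ := IsLocalization.Away.lift_comp r _
  obtain ⟨k₁, _, _, _, χ, hχ, hfr⟩ := exists_fieldExt gen hgen k φS
  have hχh : χ h ≠ 0 := by
    intro h0
    obtain ⟨t, ht⟩ := Ideal.mem_span_singleton.1 (Ideal.mem_comap.1 hs)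
    have h3 : χ (algebraMap S B s) = 0 := by rw [ht, map_mul, h0, zero_mul]
    rw [← RingHom.comp_apply, hχ, RingHom.comp_apply, map_eq_zero_iff _ (algebraMap k k₁).injective] at h3
    apply left_ne_zero_of_mul hφ
    rw [← hφS, RingHom.comp_apply, ← hf₀, map_mul, h3, zero_mul]
  have hχR : χ.comp inR = (algebraMap k k₁).comp φ := by
    rw [show χ.comp inR = (χ.comp (algebraMap S B)).comp (algebraMap R S) from rfl, hχ, RingHom.comp_assoc, hφS]
  have hrad : (J.map (map χ)).IsRadical := hred k₁ χ hχh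
  refine ⟨k₁, inferInstance, inferInstance, inferInstance, hfr, Set.range fun g => map χ (gB g), ?_, ?_⟩
  · rintro _ ⟨g, rfl⟩
    refine le_trans ?_ (Finset.le_sup (f := fun g : G => (gB g).totalDegree) (Finset.mem_univ g))
    exact Finset.sup_mono (support_map_subset _ _)
  · have hWk : ∀ l, map (algebraMap k k₁) (map φ (W l)) = map χ (map inR (W l)) := fun l => by
      rw [MvPolynomial.map_map, MvPolynomial.map_map, hχR]
    have hJ : J.map (map χ) = Ideal.span (Set.range fun g => map χ (gB g)) := by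
      rw [Ideal.map_span, ← Set.range_comp]; rfl
    refine le_antisymm (Ideal.span_le.2 ?_) ?_
    · rintro _ ⟨g, rfl⟩
      refine ⟨n g, ?_⟩
      rw [← map_pow, ← hpow, map_sum]
      refine sum_mem fun l _ => ?_
      rw [map_mul, ← hWk]
      exact Ideal.mul_mem_left _ _ (Ideal.subset_span ⟨l, rfl⟩)
    · rw [← hJ, hrad.radical_le_iff, hJ, Ideal.span_le]
      rintro _ ⟨l, rfl⟩
      show map (algebraMap k k₁) (map φ (W l)) ∈ _
      rw [hWk, ← hW, map_sum]
      refine sum_mem fun g _ => ?_
      rw [map_mul]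
      exact Ideal.mul_mem_left _ _ (Ideal.subset_span ⟨g, rfl⟩)

/-- **Uniform degree bound for radicals.** -/
theorem exists_radical_bound (N m : ℕ) : ∃ e : ℕ, ∀ (k : Type u) [Field k] (T : Set (MvPolynomial (Fin N) k)),
    (∀ p ∈ T, p.totalDegree ≤ m) → ∀ p ∈ (Ideal.span T).radical,
      p ∈ Ideal.span {q | q.totalDegree ≤ e ∧ q ∈ (Ideal.span T).radical} := by
  classical
  obtain ⟨L, hL⟩ := exists_span_fin.{u} N 1 m
  let U := univMat.{u} N 1 L m
  choose e he using fun x : ℕ × ℕ => exists_contraction_bound.{u} N x.1 x.2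
  obtain ⟨B, hB⟩ := exists_bound (R := Param.{u} N 1 L m)
    (fun k _ φ B => ∃ (k₁ : Type u) (_ : Field k₁) (_ : Algebra k k₁) (_ : Module.Finite k k₁),
      Module.finrank k k₁ ≤ B ∧ ∃ G : Set (MvPolynomial (Fin N) k₁), (∀ g ∈ G, g.totalDegree ≤ B) ∧
        Ideal.span G = (Ideal.span (Set.range fun l => map (algebraMap k k₁) (map φ (U 0 l)))).radical)
    (fun k _ φ b c hbc h => by
      obtain ⟨k₁, i₁, i₂, i₃, h₁, G, h₂, h₃⟩ := h
      exact ⟨k₁, i₁, i₂, i₃, h₁.trans hbc, G, fun g hg => (h₂ g hg).trans hbc, h₃⟩)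
    (fun 𝔭 h𝔭 => by
      haveI := h𝔭
      obtain ⟨f, hf, D, d, hD⟩ := exists_generic fun l => map (Ideal.Quotient.mk 𝔭) (U 0 l)
      obtain ⟨f, rfl⟩ := Ideal.Quotient.mk_surjective f
      refine ⟨f, fun h => hf (Ideal.Quotient.eq_zero_iff_mem.2 h), max D d, fun k _ φ hφ hfk => ?_⟩
      let ψ : Param.{u} N 1 L m ⧸ 𝔭 →+* k := Ideal.Quotient.lift 𝔭 φ fun a ha => hφ ha
      obtain ⟨k₁, i₁, i₂, i₃, h₁, G, h₂, h₃⟩ := hD k ψ (by simpa [ψ] using hfk)
      refine ⟨k₁, i₁, i₂, i₃, h₁.trans (le_max_left _ _), G, fun g hg => (h₂ g hg).trans (le_max_right _ _), ?_⟩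
      rw [h₃]
      congr 3
      funext l
      rw [MvPolynomial.map_map (Ideal.Quotient.mk 𝔭) ψ]
      rfl)
  refine ⟨(Finset.range (B + 1)).sup fun D => e (D, B), fun k _ T hT p hp => ?_⟩
  obtain ⟨W, hW, hspan⟩ := hL k ((fun p => fun _ : Fin 1 => p) '' T) (by
    rintro _ ⟨q, hq, rfl⟩ i; exact hT q hq)
  obtain ⟨φ, hφ⟩ := exists_specialise (fun i l => W l i) (fun i l => hW l i)
  obtain ⟨k₁, i₁, i₂, i₃, hfr, G, hG, hGrad⟩ := hB k φ
  have hWl : ∀ l, map φ (U 0 l) = W l 0 := fun l => congrFun (congrFun hφ 0) l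
  have hspan' : Ideal.span T = Ideal.span (Set.range fun l => W l 0) := by
    have h := congrArg (Submodule.map (LinearMap.proj (R := MvPolynomial (Fin N) k)
      (φ := fun _ : Fin 1 => MvPolynomial (Fin N) k) 0)) hspan
    rw [Submodule.map_span, Submodule.map_span, ← Set.range_comp, Set.image_image] at h
    simp only [LinearMap.proj_apply, Set.image_id'] at h
    exact h.symm
  simp only [hWl] at hGrad
  have hmapI : (Ideal.span T).map (map (algebraMap k k₁)) =
      Ideal.span (Set.range fun l => map (algebraMap k k₁) (W l 0)) := by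
    rw [hspan', Ideal.map_span, ← Set.range_comp]; rfl
  let b := Module.finBasis k k₁
  -- the extended ideal contracts to the ideal
  have hcontr : ∀ q : MvPolynomial (Fin N) k, map (algebraMap k k₁) q ∈ (Ideal.span T).map (map (algebraMap k k₁)) →
      q ∈ Ideal.span T := by
    intro q hq
    have h1 : ∀ x ∈ (Ideal.span T).map (map (algebraMap k k₁)), ∀ i, coord b x i ∈ Ideal.span T := by
      intro x hx
      rw [Ideal.map, Ideal.span] at hx
      refine Submodule.span_induction (p := fun x _ => ∀ y i, coord b (y * x) i ∈ Ideal.span T)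
        ?_ (fun y i => by simp) (fun x₁ x₂ _ _ h₁ h₂ y i => ?_) (fun r x _ hx y i => ?_) hx 1 |> fun h' i => by
          simpa using h' i
      · rintro _ ⟨t, ht, rfl⟩ y i
        rw [mul_comm, coord_mul]
        exact Ideal.mul_mem_right _ _ ht
      · rw [mul_add, map_add]; exact Ideal.add_mem _ (h₁ y i) (h₂ y i)
      · rw [smul_eq_mul, ← mul_assoc]; exact hx _ i
    obtain ⟨i, hi⟩ : ∃ i, b.repr 1 i ≠ 0 := by
      by_contra hcon
      push Not at hcon
      exact one_ne_zero (b.repr.map_eq_zero_iff.1 (Finsupp.ext hcon))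
    have h2 : coord b (map (algebraMap k k₁) q) i = q * C (b.repr 1 i) := by
      rw [← mul_one (map (algebraMap k k₁) q), coord_mul, show (1 : MvPolynomial (Fin N) k₁) = monomial 0 1 from rfl,
        coord_monomial]
      rfl
    have h3 : q * C (b.repr 1 i) ∈ Ideal.span T := h2 ▸ h1 _ hq i
    have h4 : q = q * C (b.repr 1 i) * C (b.repr 1 i)⁻¹ := by
      rw [mul_assoc, ← C_mul, mul_inv_cancel₀ hi, C_1, mul_one]
    rw [h4]
    exact Ideal.mul_mem_right _ _ h3
  have hrad : ∀ q : MvPolynomial (Fin N) k, q ∈ (Ideal.span T).radical ↔ map (algebraMap k k₁) q ∈ Ideal.span G := by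
    intro q
    rw [hGrad, ← hmapI]
    constructor
    · rintro ⟨j, hj⟩
      exact ⟨j, by rw [← map_pow]; exact Ideal.mem_map_of_mem _ hj⟩
    · rintro ⟨j, hj⟩
      exact ⟨j, hcontr _ (by rw [map_pow]; exact hj)⟩
  have h := he (Module.finrank k k₁, B) k k₁ ⟨b⟩ G hG p ((hrad p).1 hp)
  refine Ideal.span_mono ?_ h
  rintro q ⟨hq₁, hq₂⟩
  exact ⟨hq₁.trans (Finset.le_sup (f := fun D => e (D, B)) (Finset.mem_range.2 (Nat.lt_succ_of_le hfr))), (hrad q).2 hq₂⟩

end Groth.Agent.RadBound1
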