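import Groth.Agent.Lib.RadBound1.Syz
import Mathlib.RingTheory.Polynomial.Basic
import Mathlib.RingTheory.Ideal.MinimalPrime.Noetherian
import Mathlib.RingTheory.MvPolynomial.Basic
import Mathlib.LinearAlgebra.FiniteDimensional.Lemmas
import Mathlib.RingTheory.Ideal.Quotient.Noetherian

/-!
# Uniform bounds over all fields: Noetherian induction and Hermann's bound for syzygies
-/

universe u

set_option linter.style.haveILetI false

namespace Groth.Agent.RadBound1

/-- A bound valid on a dense open of every integral closed subset is valid everywhere. -/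
theorem exists_bound {R : Type u} [CommRing R] [IsNoetherianRing R]
    (P : ∀ (k : Type u) [Field k], (R →+* k) → ℕ → Prop)
    (mono : ∀ (k : Type u) [Field k] (φ : R →+* k) (b c : ℕ), b ≤ c → P k φ b → P k φ c)
    (gen : ∀ 𝔭 : Ideal R, 𝔭.IsPrime → ∃ f : R, f ∉ 𝔭 ∧ ∃ b, ∀ (k : Type u) [Field k] (φ : R →+* k),
      𝔭 ≤ RingHom.ker φ → φ f ≠ 0 → P k φ b) :
    ∃ b, ∀ (k : Type u) [Field k] (φ : R →+* k), P k φ b := by
  classical
  suffices H : ∀ 𝔞 : Ideal R, ∃ b, ∀ (k : Type u) [Field k] (φ : R →+* k), 𝔞 ≤ RingHom.ker φ → P k φ b by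
    obtain ⟨b, hb⟩ := H ⊥
    exact ⟨b, fun k _ φ => hb k φ bot_le⟩
  intro 𝔞
  induction 𝔞 using IsNoetherian.induction with
  | hgt I IH =>
    rename' I => 𝔞
    haveI : Finite (Ideal.minimalPrimes (𝔞 : Ideal R)) := (Ideal.finite_minimalPrimes_of_isNoetherianRing R 𝔞).to_subtype
    letI := Fintype.ofFinite (Ideal.minimalPrimes (𝔞 : Ideal R))
    have key : ∀ p : (Ideal.minimalPrimes (𝔞 : Ideal R)), ∃ b, ∀ (k : Type u) [Field k] (φ : R →+* k), p.1 ≤ RingHom.ker φ → P k φ b := by
      intro p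
      obtain ⟨f, hf, b₁, hb₁⟩ := gen p.1 p.2.1.1
      have hlt : 𝔞 < p.1 ⊔ Ideal.span {f} := by
        refine lt_of_le_of_ne (p.2.1.2.trans le_sup_left) fun h => hf (p.2.1.2 ?_)
        rw [h]
        exact Ideal.mem_sup_right (Ideal.mem_span_singleton_self f)
      obtain ⟨b₂, hb₂⟩ := IH _ hlt
      refine ⟨max b₁ b₂, fun k _ φ hφ => ?_⟩
      by_cases hfk : φ f = 0
      · exact mono k φ _ _ (le_max_right _ _) (hb₂ k φ (sup_le hφ ((Ideal.span_singleton_le_iff_mem _).2 hfk)))
      · exact mono k φ _ _ (le_max_left _ _) (hb₁ k φ hφ hfk)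
    choose b hb using key
    refine ⟨Finset.univ.sup b, fun k _ φ hφ => ?_⟩
    haveI : (RingHom.ker φ).IsPrime := RingHom.ker_isPrime φ
    obtain ⟨p, hp, hle⟩ := Ideal.exists_minimalPrimes_le hφ
    exact mono k φ _ _ (Finset.le_sup (Finset.mem_univ ⟨p, hp⟩)) (hb ⟨p, hp⟩ k φ hle)

/-! ### The universal family -/

/-- The exponent vector of a monomial in a box. -/
noncomputable def expOf {N d : ℕ} (m : Fin N → Fin (d + 1)) : Fin N →₀ ℕ :=
  Finsupp.equivFunOnFinite.symm fun i => (m i : ℕ)

theorem expOf_injective (N d : ℕ) : Function.Injective (expOf (N := N) (d := d)) := fun m n h =>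
  funext fun i => Fin.ext (DFunLike.congr_fun h i)

theorem sum_monomial_eq {N d : ℕ} {k : Type u} [CommRing k] (p : MvPolynomial (Fin N) k) (hp : p.totalDegree ≤ d) :
    p = ∑ m : Fin N → Fin (d + 1), MvPolynomial.monomial (expOf m) (p.coeff (expOf m)) := by
  classical
  refine MvPolynomial.ext _ _ fun s => ?_
  rw [MvPolynomial.coeff_sum]
  simp only [MvPolynomial.coeff_monomial]
  by_cases hs : ∀ i, s i ≤ d
  · let m : Fin N → Fin (d + 1) := fun i => ⟨s i, Nat.lt_succ_of_le (hs i)⟩
    have hm : expOf m = s := Finsupp.ext fun i => rfl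
    rw [Finset.sum_eq_single m (fun n _ hn => if_neg fun h => hn (expOf_injective N d (h.trans hm.symm)))
      (fun h => absurd (Finset.mem_univ m) h), if_pos hm, hm]
  · rw [Finset.sum_eq_zero fun n _ => if_neg fun h => hs fun i => by
      rw [← h]; exact Nat.le_of_lt_succ (n i).2]
    by_contra hne
    obtain ⟨i, hi⟩ := not_forall.1 hs
    have h1 : s.sum (fun _ e => e) ≤ d :=
      (MvPolynomial.le_totalDegree (MvPolynomial.mem_support_iff.2 hne)).trans hp
    have h2 : s i ≤ s.sum (fun _ e => e) := by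
      rw [Finsupp.sum_fintype _ _ (fun _ => rfl)]
      exact Finset.single_le_sum (fun j _ => Nat.zero_le (s j)) (Finset.mem_univ i)
    exact hi (h2.trans h1)

/-- The parameter ring of `D × L` matrices of polynomials of degree at most `d`. -/
abbrev Param (N D L d : ℕ) : Type u := MvPolynomial (Fin D × Fin L × (Fin N → Fin (d + 1))) (ULift.{u} ℤ)

instance : IsNoetherianRing (ULift.{u} ℤ) :=
  isNoetherianRing_of_ringEquiv ℤ ULift.ringEquiv.symm

instance (N D L d : ℕ) : IsNoetherianRing (Param.{u} N D L d) := MvPolynomial.isNoetherianRing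

/-- The universal matrix. -/
noncomputable def univMat (N D L d : ℕ) : Matrix (Fin D) (Fin L) (MvPolynomial (Fin N) (Param.{u} N D L d)) :=
  fun i j => ∑ m : Fin N → Fin (d + 1), MvPolynomial.monomial (expOf m) (MvPolynomial.X (i, j, m))

theorem exists_specialise {N D L d : ℕ} {k : Type u} [CommRing k] (A : Matrix (Fin D) (Fin L) (MvPolynomial (Fin N) k))
    (hA : ∀ i j, (A i j).totalDegree ≤ d) :
    ∃ φ : Param.{u} N D L d →+* k, (univMat N D L d).map (MvPolynomial.map φ) = A := by
  let φ : Param.{u} N D L d →+* k := MvPolynomial.eval₂Hom ((Int.castRingHom k).comp ULift.ringEquiv.toRingHom)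
    fun x => (A x.1 x.2.1).coeff (expOf x.2.2)
  refine ⟨φ, Matrix.ext fun i j => ?_⟩
  rw [Matrix.map_apply, univMat, map_sum]
  conv_rhs => rw [sum_monomial_eq (A i j) (hA i j)]
  refine Finset.sum_congr rfl fun m _ => ?_
  rw [MvPolynomial.map_monomial]
  simp [φ]

/-- **Hermann's bound.** Syzygies of polynomial matrices of bounded size and degree are generated
in bounded degree, uniformly in the field. -/
theorem exists_syz_degree_bound (N D L d : ℕ) :
    ∃ b : ℕ, ∀ (k : Type u) [Field k] (A : Matrix (Fin D) (Fin L) (MvPolynomial (Fin N) k)),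
      (∀ i j, (A i j).totalDegree ≤ d) → ∀ x, A.mulVecLin x = 0 → x ∈ Submodule.span (MvPolynomial (Fin N) k)
        {y | A.mulVecLin y = 0 ∧ ∀ i, (y i).totalDegree ≤ b} := by
  classical
  let U := univMat.{u} N D L d
  obtain ⟨b, hb⟩ := exists_bound (R := Param.{u} N D L d)
    (fun k _ φ b => ∀ x : Fin L → MvPolynomial (Fin N) k, (U.map (MvPolynomial.map φ)).mulVecLin x = 0 →
      x ∈ Submodule.span (MvPolynomial (Fin N) k)
        {y | (U.map (MvPolynomial.map φ)).mulVecLin y = 0 ∧ ∀ i, (y i).totalDegree ≤ b})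
    (fun k _ φ b c hbc h x hx => Submodule.span_mono (fun y hy => And.intro hy.1 fun i => (hy.2 i).trans hbc) (h x hx))
    (fun 𝔭 h𝔭 => by
      haveI := h𝔭
      obtain ⟨f, hf, b, hb⟩ := exists_syz_bound (U.map (MvPolynomial.map (Ideal.Quotient.mk 𝔭)))
      obtain ⟨f, rfl⟩ := Ideal.Quotient.mk_surjective f
      refine ⟨f, fun h => hf (Ideal.Quotient.eq_zero_iff_mem.2 h), b, fun k _ φ hφ hfk => ?_⟩
      let ψ : Param.{u} N D L d ⧸ 𝔭 →+* k := Ideal.Quotient.lift 𝔭 φ fun a ha => hφ ha
      have h := hb k ψ (by simpa [ψ] using hfk)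
      have heq : (U.map (MvPolynomial.map (Ideal.Quotient.mk 𝔭))).map (MvPolynomial.map ψ) =
          U.map (MvPolynomial.map φ) := by
        refine Matrix.ext fun i j => ?_
        simp only [Matrix.map_apply, MvPolynomial.map_map]
        rfl
      rwa [heq] at h)
  refine ⟨b, fun k _ A hA => ?_⟩
  obtain ⟨φ, rfl⟩ := exists_specialise A hA
  exact hb k φ

/-- A set of polynomial vectors of bounded degree spans the same module as boundedly many of them. -/
theorem exists_span_fin (N D d : ℕ) :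
    ∃ L : ℕ, ∀ (k : Type u) [Field k] (T : Set (Fin D → MvPolynomial (Fin N) k)),
      (∀ t ∈ T, ∀ i, (t i).totalDegree ≤ d) → ∃ W : Fin L → (Fin D → MvPolynomial (Fin N) k),
        (∀ l i, (W l i).totalDegree ≤ d) ∧
        Submodule.span (MvPolynomial (Fin N) k) (Set.range W) = Submodule.span (MvPolynomial (Fin N) k) T := by
  classical
  refine ⟨Fintype.card (Fin D × (Fin N → Fin (d + 1))), fun k _ T hT => ?_⟩
  let c : (Fin D → MvPolynomial (Fin N) k) →ₗ[k] (Fin D × (Fin N → Fin (d + 1)) → k) :=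
    LinearMap.pi fun x => MvPolynomial.lcoeff k (expOf x.2) ∘ₗ LinearMap.proj x.1
  let V : Submodule k (Fin D → MvPolynomial (Fin N) k) :=
    Submodule.pi Set.univ fun _ => MvPolynomial.restrictTotalDegree (Fin N) k d
  have hV : ∀ v : Fin D → MvPolynomial (Fin N) k, v ∈ V ↔ ∀ i, (v i).totalDegree ≤ d := fun v => by
    simp [V, Submodule.mem_pi, MvPolynomial.mem_restrictTotalDegree]
  have hc : ∀ v ∈ V, c v = 0 → v = 0 := fun v hv h => funext fun i => by
    rw [sum_monomial_eq (v i) ((hV v).1 hv i)]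
    refine Finset.sum_eq_zero fun m _ => ?_
    have h' := congrFun h (i, m)
    simp only [c, LinearMap.pi_apply, LinearMap.comp_apply, LinearMap.proj_apply,
      MvPolynomial.lcoeff_apply, Pi.zero_apply] at h'
    rw [h', map_zero]
  obtain ⟨s, hsT, hspan, hs⟩ := exists_linearIndependent k (c '' T)
  haveI : Finite s := hs.finite
  letI := Fintype.ofFinite s
  have hcard : Fintype.card s ≤ Fintype.card (Fin D × (Fin N → Fin (d + 1))) := by
    have := hs.fintype_card_le_finrank
    simpa [Module.finrank_fintype_fun_eq_card] using this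
  choose w hwT hw using fun x : s => hsT x.2
  obtain ⟨e⟩ : Nonempty (s ↪ Fin (Fintype.card (Fin D × (Fin N → Fin (d + 1))))) :=
    Function.Embedding.nonempty_of_card_le (by simpa using hcard)
  let W : Fin (Fintype.card (Fin D × (Fin N → Fin (d + 1)))) → (Fin D → MvPolynomial (Fin N) k) :=
    Function.extend e w 0
  have hW : ∀ l, W l = 0 ∨ ∃ x, W l = w x := fun l => by
    by_cases h : ∃ x, e x = l
    · obtain ⟨x, rfl⟩ := h
      exact Or.inr ⟨x, e.injective.extend_apply _ _ x⟩
    · exact Or.inl (Function.extend_apply' _ _ _ h)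
  refine ⟨W, fun l i => ?_, le_antisymm (Submodule.span_le.2 ?_) (Submodule.span_le.2 fun t ht => ?_)⟩
  · rcases hW l with h | ⟨x, h⟩
    · simp [h]
    · rw [h]; exact hT _ (hwT x) i
  · rintro _ ⟨l, rfl⟩
    rcases hW l with h | ⟨x, h⟩
    · rw [h]; exact Submodule.zero_mem _
    · rw [h]; exact Submodule.subset_span (hwT x)
  · have h1 : c t ∈ Submodule.span k (Set.range fun x : s => c (w x)) := by
      have h2 : (Set.range fun x : s => c (w x)) = s := by
        simp only [hw]; exact Subtype.range_coe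
      rw [h2, hspan]
      exact Submodule.subset_span ⟨t, ht, rfl⟩
    obtain ⟨a, ha⟩ := (Submodule.mem_span_range_iff_exists_fun k).1 h1
    have h3 : t = ∑ x, a x • w x := sub_eq_zero.1 (hc _
      (sub_mem ((hV t).2 (hT t ht)) (sum_mem fun x _ => V.smul_mem _ ((hV _).2 (hT _ (hwT x)))))
      (by simp only [map_sub, map_sum, map_smul, ha, sub_self]))
    rw [h3]
    refine sum_mem fun x _ => Submodule.smul_of_tower_mem _ (a x) (Submodule.subset_span ⟨e x, ?_⟩)
    exact e.injective.extend_apply _ _ x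

/-- The ideal of polynomials carrying a vector into a module generated in bounded degree is
generated in bounded degree, uniformly in the field. -/
theorem exists_colon_degree_bound (N D d : ℕ) :
    ∃ b : ℕ, ∀ (k : Type u) [Field k] (T : Set (Fin D → MvPolynomial (Fin N) k))
      (v : Fin D → MvPolynomial (Fin N) k), (∀ t ∈ T, ∀ i, (t i).totalDegree ≤ d) → (∀ i, (v i).totalDegree ≤ d) →
      ∀ p : MvPolynomial (Fin N) k, p • v ∈ Submodule.span (MvPolynomial (Fin N) k) T →
        p ∈ Ideal.span {q | q.totalDegree ≤ b ∧ q • v ∈ Submodule.span (MvPolynomial (Fin N) k) T} := by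
  classical
  obtain ⟨L, hL⟩ := exists_span_fin.{u} N D d
  obtain ⟨b, hb⟩ := exists_syz_degree_bound.{u} N D (L + 1) d
  refine ⟨b, fun k _ T v hT hv p hp => ?_⟩
  obtain ⟨W, hW, hspan⟩ := hL k T hT
  let A : Matrix (Fin D) (Fin (L + 1)) (MvPolynomial (Fin N) k) := fun i j => (Fin.cons v W : Fin (L + 1) → _) j i
  have hA : ∀ i j, (A i j).totalDegree ≤ d := fun i j => by
    induction j using Fin.cases with
    | zero => exact hv i
    | succ j => exact hW j i
  have hmul : ∀ y : Fin (L + 1) → MvPolynomial (Fin N) k, A.mulVecLin y = y 0 • v + ∑ j, y j.succ • W j := fun y => by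
    funext i
    simp [A, Matrix.mulVec, dotProduct, Fin.sum_univ_succ, Finset.sum_apply, mul_comm]
  rw [← hspan] at hp
  obtain ⟨a, ha⟩ := (Submodule.mem_span_range_iff_exists_fun _).1 hp
  have hx := hb k A hA (Fin.cons p fun j => - a j) (by
    rw [hmul]; simp [ha])
  have := Submodule.mem_map_of_mem (f := LinearMap.proj (R := MvPolynomial (Fin N) k) (φ := fun _ : Fin (L + 1) => MvPolynomial (Fin N) k) 0) hx
  rw [Submodule.map_span, LinearMap.proj_apply, Fin.cons_zero] at this
  refine Submodule.span_mono ?_ this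
  rintro _ ⟨y, ⟨hy, hdeg⟩, rfl⟩
  refine ⟨hdeg 0, ?_⟩
  rw [← hspan]
  have h2 : y 0 • v = -∑ j, y j.succ • W j := eq_neg_of_add_eq_zero_left ((hmul y).symm.trans hy)
  show y 0 • v ∈ _
  rw [h2]
  exact neg_mem (sum_mem fun j _ => Submodule.smul_mem _ _ (Submodule.subset_span (Set.mem_range_self j)))

end Groth.Agent.RadBound1
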