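import Groth.Agent.Lib.FlatH4.GenFreeMain
import Mathlib.RingTheory.TensorProduct.MvPolynomial
import Mathlib.RingTheory.Flat.Equalizer
import Mathlib.RingTheory.Localization.Away.Basic
import Mathlib.LinearAlgebra.TensorProduct.Pi
import Mathlib.LinearAlgebra.Matrix.ToLin

/-!
# Syzygies of polynomial matrices in a family: generic base change
-/

universe u

open TensorProduct

set_option linter.style.haveILetI false

namespace Groth.Agent.RadBound1

variable {R T : Type u} [CommRing R] [CommRing T] [Algebra R T] {σ : Type}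

local notation "P[" A "]" => MvPolynomial σ A

/-- Coefficient change for vectors of polynomials. -/
noncomputable def mapVec (φ : R →+* T) {n : ℕ} (v : Fin n → P[R]) : Fin n → P[T] :=
  fun i => MvPolynomial.map φ (v i)

variable (R T σ) in
/-- Base change of vectors of polynomials. -/
noncomputable def vecEquiv (n : ℕ) : T ⊗[R] (Fin n → P[R]) ≃ₗ[T] (Fin n → P[T]) :=
  (TensorProduct.piRight R T T (fun _ : Fin n => P[R])).trans
    (LinearEquiv.piCongrRight fun _ => (MvPolynomial.algebraTensorAlgEquiv R T).toLinearEquiv)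

theorem vecEquiv_tmul {n : ℕ} (t : T) (v : Fin n → P[R]) :
    vecEquiv R T σ n (t ⊗ₜ v) = t • mapVec (algebraMap R T) v := by
  funext i
  simp [vecEquiv, mapVec, MvPolynomial.algebraTensorAlgEquiv_tmul]

theorem mapVec_mulVec {D L : ℕ} (φ : R →+* T) (M : Matrix (Fin D) (Fin L) P[R]) (v : Fin L → P[R]) :
    (M.map (MvPolynomial.map φ)).mulVecLin (mapVec φ v) = mapVec φ (M.mulVecLin v) := by
  funext i
  simp only [Matrix.mulVecLin_apply]
  exact (RingHom.map_mulVec (MvPolynomial.map φ) M v i).symm

theorem vecEquiv_lTensor {D L : ℕ} (M : Matrix (Fin D) (Fin L) P[R]) (z : T ⊗[R] (Fin L → P[R])) :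
    vecEquiv R T σ D ((M.mulVecLin.restrictScalars R).lTensor T z) =
      (M.map (MvPolynomial.map (algebraMap R T))).mulVecLin (vecEquiv R T σ L z) := by
  induction z using TensorProduct.induction_on with
  | zero => simp only [map_zero]
  | tmul t v =>
    rw [LinearMap.lTensor_tmul, vecEquiv_tmul, vecEquiv_tmul, LinearMap.map_smul_of_tower, mapVec_mulVec]
    rfl
  | add x y hx hy => simp only [map_add, hx, hy]

theorem exact_ker {R P V W : Type u} [CommRing R] [CommRing P] [Algebra R P] [AddCommGroup V] [AddCommGroup W]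
    [Module R V] [Module R W] [Module P V] [Module P W] [IsScalarTower R P V] [IsScalarTower R P W]
    (T : Type u) [AddCommGroup T] [Module R T] (ψ : V →ₗ[P] W) [Module.Flat R (W ⧸ LinearMap.range ψ)]
    (z : T ⊗[R] V) (hz : (ψ.restrictScalars R).lTensor T z = 0) :
    z ∈ LinearMap.range (((LinearMap.ker ψ).subtype.restrictScalars R).lTensor T) := by
  let r : V →ₗ[R] LinearMap.range ψ := ψ.rangeRestrict.restrictScalars R
  let s : LinearMap.range ψ →ₗ[R] W := (LinearMap.range ψ).subtype.restrictScalars R
  have hcomp : ψ.restrictScalars R = s ∘ₗ r := rfl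
  have hex0 : Function.Exact s ((LinearMap.range ψ).mkQ.restrictScalars R) := fun y => by simp [s]
  have hsinj : Function.Injective (s.lTensor T) :=
    LinearMap.lTensor_injective_of_exact_of_flat ((LinearMap.range ψ).mkQ.restrictScalars R)
      (Submodule.mkQ_surjective _) s Subtype.val_injective hex0 T
  have hr : r.lTensor T z = 0 := hsinj (by
    rw [map_zero, ← LinearMap.comp_apply, ← LinearMap.lTensor_comp, ← hcomp]; exact hz)
  have hex : Function.Exact ((LinearMap.ker ψ).subtype.restrictScalars R) r := fun y => by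
    simp [r, LinearMap.rangeRestrict, Subtype.ext_iff]
  exact (lTensor_exact T hex (LinearMap.surjective_rangeRestrict ψ) z).1 hr

theorem ker_baseChange_mkQ {R P V W : Type u} [CommRing R] [CommRing P] [Algebra R P] [AddCommGroup V] [AddCommGroup W]
    [Module R V] [Module R W] [Module P V] [Module P W] [IsScalarTower R P V] [IsScalarTower R P W]
    (T : Type u) [CommRing T] [Algebra R T] (ψ : V →ₗ[P] W) (y : T ⊗[R] W) :
    ((LinearMap.range ψ).mkQ.restrictScalars R).baseChange T y = 0 ↔
      ∃ z, (ψ.restrictScalars R).lTensor T z = y := by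
  have hex : Function.Exact (ψ.restrictScalars R) ((LinearMap.range ψ).mkQ.restrictScalars R) := fun y => by simp
  exact lTensor_exact T hex (Submodule.mkQ_surjective _) y

set_option maxHeartbeats 400000 in
/-- If the cokernel is flat over the base, syzygies specialise to generators of the syzygies. -/
theorem syz_span {D L : ℕ} (M : Matrix (Fin D) (Fin L) P[R])
    [Module.Flat R ((Fin D → P[R]) ⧸ LinearMap.range M.mulVecLin)]
    (x : Fin L → P[T]) (hx : (M.map (MvPolynomial.map (algebraMap R T))).mulVecLin x = 0) :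
    x ∈ Submodule.span P[T] (mapVec (algebraMap R T) '' (LinearMap.ker M.mulVecLin : Set (Fin L → P[R]))) := by
  obtain ⟨z, rfl⟩ := (vecEquiv R T σ L).surjective x
  rw [← vecEquiv_lTensor] at hx
  have hz : (M.mulVecLin.restrictScalars R).lTensor T z = 0 := (vecEquiv R T σ D).injective (by rw [hx, map_zero])
  obtain ⟨w, rfl⟩ := exact_ker (P := MvPolynomial σ R) T M.mulVecLin z hz
  clear hz hx
  induction w using TensorProduct.induction_on with
  | zero => simp only [map_zero, Submodule.zero_mem]
  | tmul t v =>
    rw [LinearMap.lTensor_tmul, vecEquiv_tmul, ← algebraMap_smul P[T] t]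
    exact Submodule.smul_mem _ _ (Submodule.subset_span ⟨v.1, v.2, rfl⟩)
  | add a b ha hb => simpa only [map_add] using Submodule.add_mem _ ha hb

theorem flat_quotient_of_equiv {R P V W : Type u} [CommRing R] [CommRing P] [Algebra R P] [AddCommGroup V]
    [AddCommGroup W] [Module R V] [Module R W] [Module P V] [Module P W] [IsScalarTower R P V] [IsScalarTower R P W]
    (T : Type u) [CommRing T] [Algebra R T] (ψ : V →ₗ[P] W)
    [Module.Flat T (T ⊗[R] (W ⧸ LinearMap.range ψ))]
    {W' : Type u} [AddCommGroup W'] [Module T W'] (e : (T ⊗[R] W) ≃ₗ[T] W') (N : Submodule T W')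
    (hN : ∀ y, y ∈ N ↔ ∃ z, (ψ.restrictScalars R).lTensor T z = e.symm y) :
    Module.Flat T (W' ⧸ N) := by
  let g : W' →ₗ[T] T ⊗[R] (W ⧸ LinearMap.range ψ) :=
    ((LinearMap.range ψ).mkQ.restrictScalars R).baseChange T ∘ₗ e.symm.toLinearMap
  have hg : Function.Surjective g :=
    (LinearMap.lTensor_surjective T (g := (LinearMap.range ψ).mkQ.restrictScalars R)
      (Submodule.mkQ_surjective _)).comp e.symm.surjective
  have hker : LinearMap.ker g = N := by
    ext y
    rw [LinearMap.mem_ker, hN]
    exact ker_baseChange_mkQ T ψ _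
  exact Module.Flat.of_linearEquiv
    ((Submodule.quotEquivOfEq _ _ hker.symm).trans (g.quotKerEquivOfSurjective hg))

/-- Base change of the cokernel of a polynomial matrix. -/
theorem flat_coker {D L : ℕ} (M : Matrix (Fin D) (Fin L) P[R])
    [h : Module.Flat T (T ⊗[R] ((Fin D → P[R]) ⧸ LinearMap.range M.mulVecLin))] :
    Module.Flat T ((Fin D → P[T]) ⧸ (LinearMap.range
      (M.map (MvPolynomial.map (algebraMap R T))).mulVecLin).restrictScalars T) := by
  refine flat_quotient_of_equiv (P := MvPolynomial σ R) T M.mulVecLin (vecEquiv R T σ D) _ fun y => ?_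
  rw [Submodule.restrictScalars_mem, LinearMap.mem_range]
  constructor
  · rintro ⟨w, rfl⟩
    obtain ⟨z, rfl⟩ := (vecEquiv R T σ L).surjective w
    exact ⟨z, by rw [← vecEquiv_lTensor, LinearEquiv.symm_apply_apply]⟩
  · rintro ⟨z, hz⟩
    exact ⟨vecEquiv R T σ L z, by rw [← vecEquiv_lTensor, hz, LinearEquiv.apply_symm_apply]⟩

/-- On a dense open of the parameter space, syzygies are generated in bounded degree. -/
theorem exists_syz_bound [IsDomain R] [IsNoetherianRing R] [Finite σ] {D L : ℕ}
    (M : Matrix (Fin D) (Fin L) P[R]) :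
    ∃ f : R, f ≠ 0 ∧ ∃ b : ℕ, ∀ (k : Type u) [Field k] (φ : R →+* k), φ f ≠ 0 → ∀ x : Fin L → P[k],
      (M.map (MvPolynomial.map φ)).mulVecLin x = 0 → x ∈ Submodule.span P[k]
        {y | (M.map (MvPolynomial.map φ)).mulVecLin y = 0 ∧ ∀ i, (y i).totalDegree ≤ b} := by
  classical
  obtain ⟨f, hf, hfree, -⟩ := FlatH4.exists_free_and_fg_relations (R := R) (S := P[R])
    (M := (Fin D → P[R]) ⧸ LinearMap.range M.mulVecLin)
  let S := Localization.Away f
  haveI : Module.Free S (S ⊗[R] ((Fin D → P[R]) ⧸ LinearMap.range M.mulVecLin)) :=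
    hfree S (IsLocalization.Away.algebraMap_isUnit f)
  let MS := M.map (MvPolynomial.map (algebraMap R S))
  haveI := flat_coker (T := S) M
  haveI : Module.Flat S ((Fin D → MvPolynomial σ S) ⧸ LinearMap.range MS.mulVecLin) :=
    Module.Flat.of_linearEquiv (Submodule.Quotient.restrictScalarsEquiv S (LinearMap.range MS.mulVecLin)).symm
  haveI : IsNoetherianRing S := IsLocalization.isNoetherianRing (Submonoid.powers f) S inferInstance
  obtain ⟨t, ht⟩ := (IsNoetherian.noetherian (LinearMap.ker MS.mulVecLin) : (LinearMap.ker MS.mulVecLin).FG)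
  refine ⟨f, hf, t.sup fun y => Finset.univ.sup fun i => (y i).totalDegree, fun k _ φ hφ x hx => ?_⟩
  let ψ : S →+* k := IsLocalization.Away.lift f (g := φ) (isUnit_iff_ne_zero.2 hφ)
  letI := ψ.toAlgebra
  have hcomp : (MS.map (MvPolynomial.map (algebraMap S k))) = M.map (MvPolynomial.map φ) := by
    refine Matrix.ext fun i j => ?_
    simp only [MS, Matrix.map_apply, MvPolynomial.map_map]
    exact congrArg (fun g => MvPolynomial.map g _) (IsLocalization.Away.lift_comp f _)
  rw [← hcomp] at hx ⊢
  refine Submodule.span_le.2 ?_ (syz_span MS x hx)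
  rintro _ ⟨v, hv, rfl⟩
  have hv' : v ∈ Submodule.span P[S] (t : Set (Fin L → P[S])) := by rw [ht]; exact hv
  clear hv
  induction hv' using Submodule.span_induction with
  | zero =>
    have : mapVec (algebraMap S k) (0 : Fin L → P[S]) = 0 := funext fun i => map_zero _
    rw [this]; exact Submodule.zero_mem _
  | add a b _ _ ha hb =>
    have : mapVec (algebraMap S k) (a + b) = mapVec (algebraMap S k) a + mapVec (algebraMap S k) b :=
      funext fun i => map_add _ _ _
    rw [this]; exact Submodule.add_mem _ ha hb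
  | smul p a _ ha =>
    have : mapVec (algebraMap S k) (p • a) = MvPolynomial.map (algebraMap S k) p • mapVec (algebraMap S k) a :=
      funext fun i => map_mul _ _ _
    rw [this]; exact Submodule.smul_mem _ _ ha
  | mem y hy =>
    refine Submodule.subset_span ⟨?_, fun i => ?_⟩
    · have h0 : MS.mulVecLin y = 0 := by
        rw [← LinearMap.mem_ker, ← ht]; exact Submodule.subset_span hy
      rw [mapVec_mulVec, h0]
      exact funext fun i => map_zero _
    · refine le_trans ?_ ((Finset.le_sup (f := fun j => (y j).totalDegree) (Finset.mem_univ i)).trans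
        (Finset.le_sup (f := fun z => Finset.univ.sup fun j => (z j).totalDegree) hy))
      exact Finset.sup_mono (MvPolynomial.support_map_subset _ _)

end Groth.Agent.RadBound1
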